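import Mathlib

set_option autoImplicit false
set_option linter.unusedSectionVars false
open Equiv Equiv.Perm MulAction

namespace Cfsg.Agent.S2222L

/-! # S2222 : shared definitions (helper4)

Everything lives in `Perm α`; `AltOn s` = even permutations supported in the finset `s`.
`IsSyl s S` : `S` is a 2-subgroup of odd index in `AltOn s`. -/

variable {α : Type*} [Fintype α] [DecidableEq α]

/-- even permutations supported in `s`. -/
def AltOn (s : Finset α) : Subgroup (Perm α) where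
  carrier := {g | Perm.sign g = 1 ∧ ∀ x, x ∉ s → g x = x}
  mul_mem' := by
    rintro a b ⟨ha1, ha2⟩ ⟨hb1, hb2⟩
    refine ⟨by rw [map_mul, ha1, hb1, one_mul], fun x hx => ?_⟩
    rw [Perm.mul_apply, hb2 x hx, ha2 x hx]
  one_mem' := ⟨map_one _, fun _ _ => rfl⟩
  inv_mem' := by
    rintro a ⟨ha1, ha2⟩
    refine ⟨by rw [map_inv, ha1, inv_one], fun x hx => ?_⟩
    rw [Perm.inv_eq_iff_eq, ha2 x hx]

theorem mem_AltOn {s : Finset α} {g : Perm α} :
    g ∈ AltOn s ↔ Perm.sign g = 1 ∧ ∀ x, x ∉ s → g x = x := Iff.rfl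

/-- `S` is a 2-subgroup of odd index in `AltOn s`. -/
def IsSyl (s : Finset α) (S : Subgroup (Perm α)) : Prop :=
  IsPGroup 2 S ∧ S ≤ AltOn s ∧ ∃ k : ℕ, Odd k ∧ Nat.card (AltOn s) = k * Nat.card S

open scoped Classical in
/-- the `S`-orbit of `x` as a finset. -/
noncomputable def orbF (S : Subgroup (Perm α)) (x : α) : Finset α :=
  Finset.univ.filter (fun y => ∃ g ∈ S, g x = y)

theorem mem_orbF {S : Subgroup (Perm α)} {x y : α} : y ∈ orbF S x ↔ ∃ g ∈ S, g x = y := by
  simp [orbF]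

/-- the stabilizer of the point `ω` inside `S`. -/
def stabIn (S : Subgroup (Perm α)) (ω : α) : Subgroup (Perm α) :=
  S ⊓ MulAction.stabilizer (Perm α) ω

theorem mem_stabIn {S : Subgroup (Perm α)} {ω : α} {g : Perm α} :
    g ∈ stabIn S ω ↔ g ∈ S ∧ g ω = ω := by
  simp [stabIn, Subgroup.mem_inf, MulAction.mem_stabilizer_iff]

/-- distinct orbits have distinct sizes, and the sizes are the binary digits of `|s|`. -/
def DProp (s : Finset α) (S : Subgroup (Perm α)) : Prop :=
  ∀ x ∈ s, ∀ c : ℕ, (orbF S x).card = 2 ^ c →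
    Nat.testBit s.card c = true ∧ ∀ y ∈ s, (orbF S y).card = 2 ^ c → y ∈ orbF S x

/-- `S` is self-normalizing in `AltOn s`. -/
def SNProp (s : Finset α) (S : Subgroup (Perm α)) : Prop :=
  ∀ g ∈ AltOn s, (∀ x, x ∈ S ↔ g * x * g⁻¹ ∈ S) → g ∈ S

end Cfsg.Agent.S2222L
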