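import Mathlib
import Cfsg.Agent.Lib.S2222.Defs

set_option autoImplicit false
set_option linter.unusedSectionVars false
open Equiv Equiv.Perm MulAction

namespace Cfsg.Agent.S2222L

variable {α : Type*} [Fintype α] [DecidableEq α]

theorem AltOn_univ : AltOn (Finset.univ : Finset α) = alternatingGroup α := by
  ext g
  rw [mem_AltOn, Perm.mem_alternatingGroup]
  simp

theorem AltOn_apply_mem {s : Finset α} {g : Perm α} (hg : g ∈ AltOn s) {x : α} (hx : x ∈ s) :
    g x ∈ s := by
  by_contra h
  have h1 := (mem_AltOn.mp hg).2 (g x) h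
  exact h (by rw [g.injective h1]; exact hx)

theorem mem_AltOn_erase {s : Finset α} {ω : α} (hω : ω ∈ s) {g : Perm α} :
    g ∈ AltOn (s.erase ω) ↔ g ∈ AltOn s ∧ g ω = ω := by
  constructor
  · intro hg
    obtain ⟨h1, h2⟩ := mem_AltOn.mp hg
    refine ⟨mem_AltOn.mpr ⟨h1, fun x hx => h2 x ?_⟩, h2 ω (Finset.notMem_erase ω s)⟩
    intro hx'
    exact hx (Finset.mem_of_mem_erase hx')
  · rintro ⟨hg, hgω⟩
    obtain ⟨h1, h2⟩ := mem_AltOn.mp hg
    refine mem_AltOn.mpr ⟨h1, fun x hx => ?_⟩
    by_cases hxω : x = ω
    · rw [hxω]; exact hgω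
    · apply h2
      intro hxs
      exact hx (Finset.mem_erase.mpr ⟨hxω, hxs⟩)

/-- a permutation supported on at most two points of `s` which is even is trivial. -/
theorem eq_one_of_AltOn_of_fix {s : Finset α} {g : Perm α} (hg : g ∈ AltOn s) (a b : α)
    (h : ∀ x ∈ s, x ≠ a → x ≠ b → g x = x) : g = 1 := by
  obtain ⟨hsign, hout⟩ := mem_AltOn.mp hg
  have hfix : ∀ x, x ≠ a → x ≠ b → g x = x := by
    intro x hxa hxb
    by_cases hxs : x ∈ s
    · exact h x hxs hxa hxb
    · exact hout x hxs
  -- a point mapped to a fixed point is that point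
  have hback : ∀ y x, x ≠ a → x ≠ b → g y = x → y = x := by
    intro y x hxa hxb hy
    apply g.injective
    rw [hy, hfix x hxa hxb]
  by_cases ha : g a = a
  · have hb : g b = b := by
      by_contra hb
      by_cases hba : g b = a
      · have hbeq : b = a := g.injective (hba.trans ha.symm)
        exact hb (by rw [hbeq]; exact ha)
      · exact hb (hback b (g b) hba hb rfl).symm
    ext x
    by_cases hxa : x = a
    · rw [hxa, ha]; rfl
    by_cases hxb : x = b
    · rw [hxb, hb]; rfl
    rw [hfix x hxa hxb]; rfl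
  · exfalso
    have hab : g a = b := by
      by_contra hab
      exact ha (hback a (g a) ha hab rfl).symm
    have hne : a ≠ b := fun h' => ha (by rw [hab, ← h'])
    have hba : g b = a := by
      by_contra hba
      have hbb : g b ≠ b := fun h' => hne (g.injective (hab.trans h'.symm))
      exact hbb (hback b (g b) hba hbb rfl).symm
    have hg' : g = swap a b := by
      ext x
      by_cases hxa : x = a
      · rw [hxa, hab, swap_apply_left]
      by_cases hxb : x = b
      · rw [hxb, hba, swap_apply_right]
      rw [hfix x hxa hxb, swap_apply_of_ne_of_ne hxa hxb]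
    rw [hg', Perm.sign_swap hne] at hsign
    exact absurd hsign (by decide)

end Cfsg.Agent.S2222L
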