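import Mathlib
import Cfsg.Agent.Lib.S2222.Defs

set_option autoImplicit false
set_option linter.unusedSectionVars false
open Equiv Equiv.Perm MulAction

namespace Cfsg.Agent.S2222L

/-! # S2222 piece O1 : elementary orbit lemmas (helper4) -/

variable {α : Type*} [Fintype α] [DecidableEq α]

theorem self_mem_orbF (S : Subgroup (Perm α)) (x : α) : x ∈ orbF S x :=
  mem_orbF.2 ⟨1, S.one_mem, rfl⟩

theorem O1_mem_trans {S : Subgroup (Perm α)} {x y z : α} (h1 : y ∈ orbF S x)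
    (h2 : z ∈ orbF S y) : z ∈ orbF S x := by
  obtain ⟨g, hg, rfl⟩ := mem_orbF.1 h1
  obtain ⟨k, hk, rfl⟩ := mem_orbF.1 h2
  exact mem_orbF.2 ⟨k * g, S.mul_mem hk hg, rfl⟩

theorem O1_mem_symm {S : Subgroup (Perm α)} {x y : α} (h : y ∈ orbF S x) : x ∈ orbF S y := by
  obtain ⟨g, hg, rfl⟩ := mem_orbF.1 h
  exact mem_orbF.2 ⟨g⁻¹, S.inv_mem hg, by simp⟩

theorem orbF_eq_of_mem {S : Subgroup (Perm α)} {x y : α} (h : y ∈ orbF S x) :
    orbF S y = orbF S x := by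
  ext z
  exact ⟨fun hz => O1_mem_trans h hz, fun hz => O1_mem_trans (O1_mem_symm h) hz⟩

theorem O1_AltOn_apply_mem {s : Finset α} {g : Perm α} (hg : g ∈ AltOn s) {x : α} (hx : x ∈ s) :
    g x ∈ s := by
  by_contra h
  have h1 : g (g x) = g x := (mem_AltOn.1 hg).2 _ h
  have h2 : g x = x := g.injective h1
  rw [h2] at h
  exact h hx

theorem orbF_subset {s : Finset α} {S : Subgroup (Perm α)} (hS : S ≤ AltOn s) {x : α}
    (hx : x ∈ s) : orbF S x ⊆ s := by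
  intro y hy
  obtain ⟨g, hg, rfl⟩ := mem_orbF.1 hy
  exact O1_AltOn_apply_mem (hS hg) hx

theorem apply_mem_orbF {S : Subgroup (Perm α)} {g : Perm α} (hg : g ∈ S) (x : α) :
    g x ∈ orbF S x := mem_orbF.2 ⟨g, hg, rfl⟩

theorem orbF_mono {S T : Subgroup (Perm α)} (h : S ≤ T) (x : α) : orbF S x ⊆ orbF T x := by
  intro y hy
  obtain ⟨g, hg, rfl⟩ := mem_orbF.1 hy
  exact mem_orbF.2 ⟨g, h hg, rfl⟩

theorem stabIn_le (S : Subgroup (Perm α)) (ω : α) : stabIn S ω ≤ S := fun _ hg =>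
  (mem_stabIn.1 hg).1

theorem stabIn_le_AltOn_erase {s : Finset α} {S : Subgroup (Perm α)} (hS : S ≤ AltOn s) {ω : α}
    (hω : ω ∈ s) : stabIn S ω ≤ AltOn (s.erase ω) := by
  intro g hg
  obtain ⟨hgS, hgω⟩ := mem_stabIn.1 hg
  obtain ⟨h1, h2⟩ := mem_AltOn.1 (hS hgS)
  refine mem_AltOn.2 ⟨h1, fun x hx => ?_⟩
  by_cases hxω : x = ω
  · rw [hxω]; exact hgω
  · exact h2 x (fun hxs => hx (Finset.mem_erase.2 ⟨hxω, hxs⟩))

/-- conjugation by a normalizing element maps orbits to orbits. -/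
theorem orbF_image_of_normalizes {S : Subgroup (Perm α)} {g : Perm α}
    (hn : ∀ x, x ∈ S ↔ g * x * g⁻¹ ∈ S) (x : α) : (orbF S x).image g = orbF S (g x) := by
  ext y
  constructor
  · intro hy
    obtain ⟨z, hz, rfl⟩ := Finset.mem_image.1 hy
    obtain ⟨h, hh, rfl⟩ := mem_orbF.1 hz
    refine mem_orbF.2 ⟨g * h * g⁻¹, (hn h).1 hh, ?_⟩
    simp
  · intro hy
    obtain ⟨k, hk, rfl⟩ := mem_orbF.1 hy
    refine Finset.mem_image.2 ⟨(g⁻¹ * k * g) x, ?_, by simp⟩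
    refine mem_orbF.2 ⟨g⁻¹ * k * g, ?_, rfl⟩
    rw [hn]
    have : g * (g⁻¹ * k * g) * g⁻¹ = k := by group
    rw [this]
    exact hk

end Cfsg.Agent.S2222L
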