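import Mathlib
import Cfsg.Agent.Lib.S2222.Defs
import Cfsg.Agent.Lib.S2222.O1

/-!
# S2222 piece A2 (helper8): transitivity and order of `AltOn s`
-/

set_option autoImplicit false
set_option linter.unusedSectionVars false
open Equiv Equiv.Perm MulAction

namespace Cfsg.Agent.S2222L

variable {α : Type*} [Fintype α] [DecidableEq α]

/-- local copy of `mem_AltOn_erase` (so that A2 does not depend on A1) -/
theorem A2_mem_AltOn_erase {s : Finset α} {ω : α} (hω : ω ∈ s) {g : Perm α} :
    g ∈ AltOn (s.erase ω) ↔ g ∈ AltOn s ∧ g ω = ω := by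
  constructor
  · rintro ⟨h1, h2⟩
    refine ⟨⟨h1, fun x hx => h2 x (fun hx' => hx (Finset.mem_erase.1 hx').2)⟩, ?_⟩
    exact h2 ω (Finset.notMem_erase ω s)
  · rintro ⟨⟨h1, h2⟩, h3⟩
    refine ⟨h1, fun x hx => ?_⟩
    by_cases hxω : x = ω
    · rw [hxω]; exact h3
    · exact h2 x (fun hxs => hx (Finset.mem_erase.2 ⟨hxω, hxs⟩))

/-- local copy of `eq_one_of_AltOn_of_fix` for permutations moving at most two points -/
theorem A2_eq_one_of_fix {g : Perm α} (hg : Perm.sign g = 1) (a b : α)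
    (h : ∀ x, x ≠ a → x ≠ b → g x = x) : g = 1 := by
  by_contra hne
  have hsub : g.support ⊆ {a, b} := by
    intro x hx
    rw [Equiv.Perm.mem_support] at hx
    by_contra hx'
    rw [Finset.mem_insert, Finset.mem_singleton, not_or] at hx'
    exact hx (h x hx'.1 hx'.2)
  have h1 : g.support.card ≤ 2 := le_trans (Finset.card_le_card hsub) Finset.card_le_two
  have h2 : 2 ≤ g.support.card := Equiv.Perm.two_le_card_support_of_ne_one hne
  have h3 : g.IsSwap := Equiv.Perm.card_support_eq_two.1 (le_antisymm h1 h2)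
  rw [h3.sign_eq] at hg
  revert hg; decide

theorem AltOn_transitive {s : Finset α} (h3 : 3 ≤ s.card) {x y : α} (hx : x ∈ s) (hy : y ∈ s) :
    ∃ g ∈ AltOn s, g x = y := by
  by_cases hxy : x = y
  · exact ⟨1, one_mem _, by rw [hxy]; rfl⟩
  -- a third point
  obtain ⟨z, hz, hzx, hzy⟩ : ∃ z ∈ s, z ≠ x ∧ z ≠ y := by
    by_contra hcon
    push Not at hcon
    have hsub : s ⊆ {x, y} := by
      intro w hw
      by_cases hwx : w = x
      · rw [hwx]; simp
      · rw [hcon w hw hwx]; simp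
    have := Finset.card_le_card hsub
    have h2 : ({x, y} : Finset α).card ≤ 2 := Finset.card_le_two
    omega
  refine ⟨swap x z * swap x y, ⟨?_, ?_⟩, ?_⟩
  · rw [map_mul, Equiv.Perm.sign_swap (Ne.symm hzx), Equiv.Perm.sign_swap hxy]
    decide
  · intro w hw
    have hwx : w ≠ x := fun h => hw (h ▸ hx)
    have hwy : w ≠ y := fun h => hw (h ▸ hy)
    have hwz : w ≠ z := fun h => hw (h ▸ hz)
    rw [Perm.mul_apply, Equiv.swap_apply_of_ne_of_ne hwx hwy, Equiv.swap_apply_of_ne_of_ne hwx hwz]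
  · rw [Perm.mul_apply, Equiv.swap_apply_left, Equiv.swap_apply_of_ne_of_ne (Ne.symm hxy) (Ne.symm hzy)]

/-- orbit–stabilizer for `AltOn s` acting on `s`. -/
theorem card_AltOn_erase {s : Finset α} (h3 : 3 ≤ s.card) {ω : α} (hω : ω ∈ s) :
    Nat.card (AltOn s) = s.card * Nat.card (AltOn (s.erase ω)) := by
  classical
  have h1 := Subgroup.card_mul_index (MulAction.stabilizer (AltOn s) ω)
  rw [MulAction.index_stabilizer] at h1
  -- the orbit is `s`
  have horb : MulAction.orbit (AltOn s) ω = (s : Set α) := by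
    ext y
    constructor
    · rintro ⟨⟨g, hg⟩, rfl⟩
      exact O1_AltOn_apply_mem hg hω
    · intro hy
      obtain ⟨g, hg, hgy⟩ := AltOn_transitive h3 hω (Finset.mem_coe.1 hy)
      exact ⟨⟨g, hg⟩, hgy⟩
  rw [horb, Set.ncard_coe_finset] at h1
  -- the stabilizer is `AltOn (s.erase ω)`
  have hstab : Nat.card (MulAction.stabilizer (AltOn s) ω) = Nat.card (AltOn (s.erase ω)) := by
    have hmap : (MulAction.stabilizer (AltOn s) ω).map (AltOn s).subtype = AltOn (s.erase ω) := by
      ext g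
      rw [Subgroup.mem_map, A2_mem_AltOn_erase hω]
      constructor
      · rintro ⟨⟨g', hg'⟩, hst, rfl⟩
        exact ⟨hg', hst⟩
      · rintro ⟨hg, hgω⟩
        exact ⟨⟨g, hg⟩, hgω, rfl⟩
    rw [← hmap]
    exact (Subgroup.card_map_of_injective (Subgroup.subtype_injective _)).symm
  rw [hstab] at h1
  rw [← h1, mul_comm]

/-- `AltOn` of a set with at most two points is trivial -/
theorem A2_card_AltOn_two {s : Finset α} (h2 : s.card = 2) : Nat.card (AltOn s) = 1 := by
  obtain ⟨a, b, _, hab⟩ := Finset.card_eq_two.1 h2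
  have hbot : AltOn s = ⊥ := by
    rw [Subgroup.eq_bot_iff_forall]
    intro g hg
    apply A2_eq_one_of_fix hg.1 a b
    intro x hxa hxb
    apply hg.2 x
    rw [hab]
    intro hx
    rcases Finset.mem_insert.1 hx with h | h
    · exact hxa h
    · exact hxb (Finset.mem_singleton.1 h)
  rw [hbot]
  exact Subgroup.card_bot

theorem A2_card_step {s : Finset α} (n : ℕ) (hn : s.card = n + 1) (h3 : 3 ≤ n + 1) :
    ∃ s' : Finset α, s'.card = n ∧ Nat.card (AltOn s) = (n + 1) * Nat.card (AltOn s') := by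
  have hne : s.Nonempty := by
    rw [← Finset.card_pos]; omega
  obtain ⟨ω, hω⟩ := hne
  refine ⟨s.erase ω, by rw [Finset.card_erase_of_mem hω, hn]; rfl, ?_⟩
  rw [card_AltOn_erase (by omega) hω, hn]

theorem card_AltOn_six {s : Finset α} (h6 : s.card = 6) : Nat.card (AltOn s) = 360 := by
  obtain ⟨s5, h5, e5⟩ := A2_card_step 5 h6 (by norm_num)
  obtain ⟨s4, h4, e4⟩ := A2_card_step 4 h5 (by norm_num)
  obtain ⟨s3, h3, e3⟩ := A2_card_step 3 h4 (by norm_num)
  obtain ⟨s2, h2, e2⟩ := A2_card_step 2 h3 (by norm_num)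
  rw [e5, e4, e3, e2, A2_card_AltOn_two h2]

end Cfsg.Agent.S2222L
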