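import Mathlib

set_option autoImplicit false

namespace Cfsg.Agent.S2222L

/-- `m = 2^t * q` with `q` odd, `t = padicValNat 2 m`. -/
theorem Bit_decomp (m : ℕ) (hm : 0 < m) :
    ∃ q : ℕ, m = 2 ^ (padicValNat 2 m) * q ∧ q % 2 = 1 := by
  obtain ⟨q, hq⟩ := (pow_padicValNat_dvd : 2 ^ padicValNat 2 m ∣ m)
  refine ⟨q, hq, ?_⟩
  by_contra h
  have h2 : q % 2 = 0 := by omega
  obtain ⟨r, hr⟩ := Nat.dvd_of_mod_eq_zero h2
  have : 2 ^ (padicValNat 2 m + 1) ∣ m := by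
    refine ⟨r, ?_⟩
    calc m = 2 ^ padicValNat 2 m * q := hq
      _ = 2 ^ padicValNat 2 m * (2 * r) := by rw [hr]
      _ = 2 ^ (padicValNat 2 m + 1) * r := by rw [pow_succ]; ring
  exact pow_succ_padicValNat_not_dvd (p := 2) (by omega) this

theorem Bit_pred_div (t q : ℕ) (hq : 0 < q) : (2 ^ t * q - 1) / 2 ^ t = q - 1 := by
  have hpos : 0 < 2 ^ t := by positivity
  have e : 2 ^ t * q - 1 = 2 ^ t * (q - 1) + (2 ^ t - 1) := by
    obtain ⟨q', rfl⟩ : ∃ q', q = q' + 1 := ⟨q - 1, by omega⟩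
    have : 2 ^ t * (q' + 1) = 2 ^ t * q' + 2 ^ t := by ring
    rw [this, Nat.add_sub_cancel]
    omega
  rw [e, Nat.mul_add_div hpos, Nat.div_eq_of_lt (by omega), add_zero]

theorem Bit_aux1 (t q : ℕ) (hodd : q % 2 = 1) : Nat.testBit (2 ^ t * q) t = true := by
  rw [Nat.testBit_eq_decide_div_mod_eq]
  have hpos : 0 < 2 ^ t := by positivity
  rw [Nat.mul_div_cancel_left q hpos, hodd]
  rfl

theorem Bit_aux2 (t q : ℕ) (hodd : q % 2 = 1) : Nat.testBit (2 ^ t * q - 1) t = false := by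
  rw [Nat.testBit_eq_decide_div_mod_eq]
  have hq0 : 0 < q := by omega
  rw [Bit_pred_div t q hq0]
  have : (q - 1) % 2 = 0 := by omega
  rw [this]
  rfl

theorem Bit_aux3 (t q d : ℕ) (hodd : q % 2 = 1) :
    Nat.testBit (2 ^ t * q - 1) (t + (d + 1)) = Nat.testBit (2 ^ t * q) (t + (d + 1)) := by
  have hq0 : 0 < q := by omega
  rw [Nat.testBit_eq_decide_div_mod_eq, Nat.testBit_eq_decide_div_mod_eq]
  have hpos : 0 < 2 ^ t := by positivity
  have h1 : (2 ^ t * q - 1) / 2 ^ (t + (d + 1)) = (q - 1) / 2 ^ (d + 1) := by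
    rw [pow_add, ← Nat.div_div_eq_div_mul, Bit_pred_div t q hq0]
  have h2 : 2 ^ t * q / 2 ^ (t + (d + 1)) = q / 2 ^ (d + 1) := by
    rw [pow_add, ← Nat.div_div_eq_div_mul, Nat.mul_div_cancel_left q hpos]
  rw [h1, h2]
  have h3 : (q - 1) / 2 ^ (d + 1) = q / 2 ^ (d + 1) := by
    rw [pow_succ', ← Nat.div_div_eq_div_mul, ← Nat.div_div_eq_div_mul]
    congr 1
    omega
  rw [h3]

theorem testBit_padicVal (m : ℕ) (hm : 0 < m) : Nat.testBit m (padicValNat 2 m) = true := by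
  obtain ⟨q, hq, hodd⟩ := Bit_decomp m hm
  generalize padicValNat 2 m = t at hq ⊢
  subst hq
  exact Bit_aux1 t q hodd

theorem testBit_pred_padicVal (m : ℕ) (hm : 0 < m) :
    Nat.testBit (m - 1) (padicValNat 2 m) = false := by
  obtain ⟨q, hq, hodd⟩ := Bit_decomp m hm
  generalize padicValNat 2 m = t at hq ⊢
  subst hq
  exact Bit_aux2 t q hodd

theorem testBit_pred_of_gt (m c : ℕ) (hm : 0 < m) (hc : padicValNat 2 m < c) :
    Nat.testBit (m - 1) c = Nat.testBit m c := by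
  obtain ⟨q, hq, hodd⟩ := Bit_decomp m hm
  generalize padicValNat 2 m = t at hq hc ⊢
  subst hq
  obtain ⟨d, rfl⟩ : ∃ d, c = t + (d + 1) := ⟨c - t - 1, by omega⟩
  exact Bit_aux3 t q d hodd

end Cfsg.Agent.S2222L
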