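import Mathlib
import Cfsg.Agent.Lib.S2222.Defs
import Cfsg.Agent.Lib.S2222.O1

set_option autoImplicit false
set_option linter.unusedSectionVars false
open Equiv Equiv.Perm MulAction

namespace Cfsg.Agent.S2222L

/-! # S2222 piece O2 : orbit counting (lead) -/

variable {α : Type*} [Fintype α] [DecidableEq α]

theorem O2_orbit_eq (S : Subgroup (Perm α)) (x : α) :
    (MulAction.orbit S x : Set α) = ↑(orbF S x) := by
  ext y
  rw [Finset.mem_coe, mem_orbF, MulAction.mem_orbit_iff]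
  constructor
  · rintro ⟨g, rfl⟩
    exact ⟨g.1, g.2, rfl⟩
  · rintro ⟨g, hg, rfl⟩
    exact ⟨⟨g, hg⟩, rfl⟩

theorem O2_card_orbit (S : Subgroup (Perm α)) (x : α) :
    Nat.card (MulAction.orbit S x) = (orbF S x).card := by
  rw [O2_orbit_eq S x]
  simp

/-- the stabilizer inside `S`, as a subgroup of `Perm α` and as a subgroup of `↥S`. -/
def O2_stabEquiv (S : Subgroup (Perm α)) (x : α) :
    ↥(stabIn S x) ≃ ↥(MulAction.stabilizer S x) where
  toFun g := ⟨⟨g.1, (mem_stabIn.1 g.2).1⟩, (mem_stabIn.1 g.2).2⟩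
  invFun h := ⟨h.1.1, mem_stabIn.2 ⟨h.1.2, h.2⟩⟩
  left_inv _ := rfl
  right_inv _ := rfl

theorem card_orbF_mul (S : Subgroup (Perm α)) (x : α) :
    (orbF S x).card * Nat.card (stabIn S x) = Nat.card S := by
  classical
  have h := MulAction.card_orbit_mul_card_stabilizer_eq_card_group S x
  rw [← Nat.card_eq_fintype_card, ← Nat.card_eq_fintype_card, ← Nat.card_eq_fintype_card] at h
  rw [← O2_card_orbit, Nat.card_congr (O2_stabEquiv S x)]
  exact h

theorem card_orbF_pow {S : Subgroup (Perm α)} (hS : IsPGroup 2 S) (x : α) :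
    ∃ c : ℕ, (orbF S x).card = 2 ^ c := by
  obtain ⟨k, hk⟩ := IsPGroup.iff_card.1 hS
  have hd : (orbF S x).card ∣ 2 ^ k := by
    rw [← hk, ← card_orbF_mul S x]
    exact dvd_mul_right _ _
  obtain ⟨c, _, hc⟩ := (Nat.dvd_prime_pow Nat.prime_two).1 hd
  exact ⟨c, hc⟩

theorem dvd_card_of_forall_dvd_orbF {S : Subgroup (Perm α)} (Y : Finset α)
    (hinv : ∀ g ∈ S, ∀ x ∈ Y, g x ∈ Y) (d : ℕ) (h : ∀ x ∈ Y, d ∣ (orbF S x).card) :
    d ∣ Y.card := by
  classical
  induction' hn : Y.card using Nat.strong_induction_on with n ih generalizing Y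
  rcases Y.eq_empty_or_nonempty with rfl | ⟨x, hx⟩
  · simp at hn; subst hn; exact dvd_zero _
  · have hsub : orbF S x ⊆ Y := by
      intro y hy
      obtain ⟨g, hg, rfl⟩ := mem_orbF.1 hy
      exact hinv g hg x hx
    have hcard : (Y \ orbF S x).card + (orbF S x).card = Y.card :=
      Finset.card_sdiff_add_card_eq_card hsub
    have hpos : 0 < (orbF S x).card := Finset.card_pos.2 ⟨x, self_mem_orbF S x⟩
    have hlt : (Y \ orbF S x).card < n := by omega
    have hinv' : ∀ g ∈ S, ∀ y ∈ Y \ orbF S x, g y ∈ Y \ orbF S x := by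
      intro g hg y hy
      obtain ⟨hyY, hyO⟩ := Finset.mem_sdiff.1 hy
      refine Finset.mem_sdiff.2 ⟨hinv g hg y hyY, fun hgy => hyO ?_⟩
      obtain ⟨k, hk, hky⟩ := mem_orbF.1 hgy
      refine mem_orbF.2 ⟨g⁻¹ * k, S.mul_mem (S.inv_mem hg) hk, ?_⟩
      rw [Perm.mul_apply, hky]
      simp
    have h' : ∀ y ∈ Y \ orbF S x, d ∣ (orbF S y).card := fun y hy =>
      h y (Finset.mem_sdiff.1 hy).1
    have := ih _ hlt (Y \ orbF S x) hinv' h' rfl
    rw [← hn, ← hcard]
    exact dvd_add this (h x hx)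

end Cfsg.Agent.S2222L
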