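import Mathlib
import Cfsg.Agent.Lib.S2222.Defs
import Cfsg.Agent.Lib.S2222.O1
import Cfsg.Agent.Lib.S2222.O2
import Cfsg.Agent.Lib.S2222.A2

/-!
# S2222 piece I (helper8): the index identity and the minimal orbit
-/

set_option autoImplicit false
set_option linter.unusedSectionVars false
open Equiv Equiv.Perm MulAction

namespace Cfsg.Agent.S2222L

variable {α : Type*} [Fintype α] [DecidableEq α]

/-- the index identity `m * j = k * o` -/
theorem I_identity {s : Finset α} {S : Subgroup (Perm α)} (h3 : 3 ≤ s.card)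
    (hS : IsSyl s S) {ω : α} (hω : ω ∈ s) :
    ∃ j k : ℕ, Odd k ∧ s.card * j = k * (orbF S ω).card ∧
      Nat.card (AltOn (s.erase ω)) = j * Nat.card (stabIn S ω) := by
  obtain ⟨hp, hle, k, hk, hcard⟩ := hS
  have h1 : Nat.card (AltOn s) = s.card * Nat.card (AltOn (s.erase ω)) := card_AltOn_erase h3 hω
  have h2 : (orbF S ω).card * Nat.card (stabIn S ω) = Nat.card S := card_orbF_mul S ω
  have h3' : stabIn S ω ≤ AltOn (s.erase ω) := stabIn_le_AltOn_erase hle hω
  obtain ⟨j, hj⟩ : Nat.card (stabIn S ω) ∣ Nat.card (AltOn (s.erase ω)) :=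
    Subgroup.card_dvd_of_le h3'
  have hpos : 0 < Nat.card (stabIn S ω) := Nat.card_pos
  refine ⟨j, k, hk, ?_, by rw [hj, mul_comm]⟩
  have h4 : s.card * j * Nat.card (stabIn S ω) = k * (orbF S ω).card * Nat.card (stabIn S ω) := by
    calc s.card * j * Nat.card (stabIn S ω)
        = s.card * (Nat.card (stabIn S ω) * j) := by ring
      _ = s.card * Nat.card (AltOn (s.erase ω)) := by rw [hj]
      _ = Nat.card (AltOn s) := h1.symm
      _ = k * Nat.card S := hcard
      _ = k * ((orbF S ω).card * Nat.card (stabIn S ω)) := by rw [h2]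
      _ = k * (orbF S ω).card * Nat.card (stabIn S ω) := by ring
  exact Nat.eq_of_mul_eq_mul_right hpos h4

theorem two_pow_dvd_card_orbF {s : Finset α} {S : Subgroup (Perm α)} (h3 : 3 ≤ s.card)
    (hS : IsSyl s S) {ω : α} (hω : ω ∈ s) :
    2 ^ (padicValNat 2 s.card) ∣ (orbF S ω).card := by
  obtain ⟨j, k, hk, hid, _⟩ := I_identity h3 hS hω
  have h1 : 2 ^ (padicValNat 2 s.card) ∣ s.card := pow_padicValNat_dvd
  have h2 : 2 ^ (padicValNat 2 s.card) ∣ (orbF S ω).card * k := by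
    rw [mul_comm, ← hid]
    exact Dvd.dvd.mul_right h1 j
  have hcop : Nat.Coprime (2 ^ (padicValNat 2 s.card)) k :=
    Nat.Coprime.pow_left _ (Nat.coprime_two_left.2 hk)
  exact Nat.Coprime.dvd_of_dvd_mul_right hcop h2

/-- `m = 2 ^ ν₂(m) * m'` with `m'` odd -/
theorem I_odd_part (m : ℕ) (hm : m ≠ 0) : ∃ m', Odd m' ∧ m = 2 ^ (padicValNat 2 m) * m' := by
  obtain ⟨m', hm'⟩ : 2 ^ (padicValNat 2 m) ∣ m := pow_padicValNat_dvd
  refine ⟨m', ?_, hm'⟩
  by_contra hodd
  rw [Nat.not_odd_iff_even] at hodd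
  obtain ⟨i, hi⟩ := hodd
  have : 2 ^ (padicValNat 2 m + 1) ∣ m := by
    refine ⟨i, ?_⟩
    rw [pow_succ]
    conv_lhs => rw [hm', hi]
    ring
  exact pow_succ_padicValNat_not_dvd hm this

theorem isSyl_stabIn {s : Finset α} {S : Subgroup (Perm α)} (h3 : 3 ≤ s.card) (hS : IsSyl s S)
    {ω : α} (hω : ω ∈ s) (hc : (orbF S ω).card = 2 ^ (padicValNat 2 s.card)) :
    IsSyl (s.erase ω) (stabIn S ω) := by
  obtain ⟨j, k, hk, hid, hj⟩ := I_identity h3 hS hω
  refine ⟨hS.1.to_le (stabIn_le S ω), stabIn_le_AltOn_erase hS.2.1 hω, j, ?_, hj⟩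
  obtain ⟨m', hm'odd, hm'⟩ := I_odd_part s.card (by omega)
  rw [hc] at hid
  have hpos : 0 < 2 ^ (padicValNat 2 s.card) := by positivity
  have h1 : 2 ^ (padicValNat 2 s.card) * (m' * j) = 2 ^ (padicValNat 2 s.card) * k := by
    calc 2 ^ (padicValNat 2 s.card) * (m' * j)
        = (2 ^ (padicValNat 2 s.card) * m') * j := by ring
      _ = s.card * j := by rw [← hm']
      _ = k * 2 ^ (padicValNat 2 s.card) := hid
      _ = 2 ^ (padicValNat 2 s.card) * k := by ring
  have h2 : m' * j = k := Nat.eq_of_mul_eq_mul_left hpos h1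
  rw [← h2] at hk
  exact Nat.Odd.of_mul_right hk

theorem exists_min_orbF {s : Finset α} {S : Subgroup (Perm α)} (h3 : 3 ≤ s.card)
    (hS : IsSyl s S) : ∃ ω ∈ s, (orbF S ω).card = 2 ^ (padicValNat 2 s.card) := by
  by_contra hcon
  push Not at hcon
  have hall : ∀ x ∈ s, 2 ^ (padicValNat 2 s.card + 1) ∣ (orbF S x).card := by
    intro x hx
    obtain ⟨c, hc⟩ := card_orbF_pow hS.1 x
    have h1 := two_pow_dvd_card_orbF h3 hS hx
    rw [hc] at h1 ⊢
    have h2 : padicValNat 2 s.card ≤ c := (Nat.pow_dvd_pow_iff_le_right (by norm_num)).1 h1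
    have h3 : c ≠ padicValNat 2 s.card := by
      intro h
      apply hcon x hx
      rw [hc, h]
    exact pow_dvd_pow 2 (by omega)
  have hdvd : 2 ^ (padicValNat 2 s.card + 1) ∣ s.card :=
    dvd_card_of_forall_dvd_orbF (S := S) s
      (fun g hg x hx => O1_AltOn_apply_mem (hS.2.1 hg) hx) _ hall
  exact pow_succ_padicValNat_not_dvd (by omega) hdvd

end Cfsg.Agent.S2222L
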