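import Mathlib
import Cfsg.Agent.Lib.S2222.O1
import Cfsg.Agent.Lib.S2222.I

set_option autoImplicit false
set_option linter.unusedSectionVars false
open Equiv Equiv.Perm MulAction

namespace Cfsg.Agent.S2222L

/-! # S2222 piece D_base (helper4) -/

variable {α : Type*} [Fintype α] [DecidableEq α]

theorem DB_padic : padicValNat 2 4 = 2 := by
  have h := padicValNat.prime_pow (p := 2) 2
  norm_num at h
  exact h

theorem D_base {s : Finset α} {S : Subgroup (Perm α)} (h4 : s.card = 4) (hS : IsSyl s S) :
    DProp s S := by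
  have h3 : 3 ≤ s.card := by omega
  have horb : ∀ x ∈ s, orbF S x = s := by
    intro x hx
    have hsub : orbF S x ⊆ s := orbF_subset hS.2.1 hx
    have hdvd : 4 ∣ (orbF S x).card := by
      have := two_pow_dvd_card_orbF h3 hS hx
      rw [h4, DB_padic] at this
      exact this
    have hpos : 0 < (orbF S x).card := Finset.card_pos.2 ⟨x, self_mem_orbF S x⟩
    have hle : 4 ≤ (orbF S x).card := Nat.le_of_dvd hpos hdvd
    exact Finset.eq_of_subset_of_card_le hsub (by rw [h4]; exact hle)
  intro x hx c hc
  rw [horb x hx, h4] at hc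
  have hc2 : c = 2 := by
    have : (2 : ℕ) ^ 2 = 2 ^ c := by rw [← hc]; norm_num
    exact (Nat.pow_right_injective (le_refl 2) this).symm
  subst hc2
  refine ⟨by rw [h4]; decide, ?_⟩
  intro y hy _
  rw [horb x hx]
  exact hy

end Cfsg.Agent.S2222L
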