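import Cfsg.Agent.Lib.S2222.O1
import Cfsg.Agent.Lib.S2222.O2

set_option autoImplicit false
set_option linter.unusedSectionVars false
open Equiv Equiv.Perm MulAction

namespace Cfsg.Agent.S2222L

variable {α : Type*} [Fintype α] [DecidableEq α]

theorem card_lt_of_distinct {S' : Subgroup (Perm α)} (Y : Finset α) (e : ℕ)
    (hpow : ∀ x ∈ Y, ∃ c ≤ e, (orbF S' x).card = 2 ^ c)
    (hdist : ∀ x ∈ Y, ∀ y ∈ Y, (orbF S' x).card = (orbF S' y).card → y ∈ orbF S' x) :
    Y.card < 2 ^ (e + 1) := by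
  classical
  choose! f hf using hpow
  have hmap : ∀ x ∈ Y, f x ∈ Finset.range (e + 1) := by
    intro x hx
    rw [Finset.mem_range]
    have := (hf x hx).1
    omega
  rw [Finset.card_eq_sum_card_fiberwise hmap]
  have hle : ∀ c ∈ Finset.range (e + 1), (Y.filter (fun a => f a = c)).card ≤ 2 ^ c := by
    intro c _
    by_cases hne : (Y.filter (fun a => f a = c)).Nonempty
    · obtain ⟨x0, hx0⟩ := hne
      rw [Finset.mem_filter] at hx0
      have hsub : Y.filter (fun a => f a = c) ⊆ orbF S' x0 := by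
        intro y hy
        rw [Finset.mem_filter] at hy
        apply hdist x0 hx0.1 y hy.1
        rw [(hf x0 hx0.1).2, (hf y hy.1).2, hx0.2, hy.2]
      calc (Y.filter (fun a => f a = c)).card ≤ (orbF S' x0).card := Finset.card_le_card hsub
        _ = 2 ^ c := by rw [(hf x0 hx0.1).2, hx0.2]
    · rw [Finset.not_nonempty_iff_eq_empty] at hne
      rw [hne, Finset.card_empty]
      positivity
  calc ∑ b ∈ Finset.range (e + 1), (Y.filter (fun a => f a = b)).card
      ≤ ∑ b ∈ Finset.range (e + 1), 2 ^ b := Finset.sum_le_sum hle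
    _ < 2 ^ (e + 1) := Nat.geomSum_lt (le_refl 2) (fun k hk => Finset.mem_range.1 hk)

theorem orbF_eq_orbF_stabIn {S : Subgroup (Perm α)} (hS2 : IsPGroup 2 S) (ω x : α)
    (hx : ω ∉ orbF S x)
    (hdist : ∀ y ∈ orbF S x, ∀ z ∈ orbF S x,
      (orbF (stabIn S ω) y).card = (orbF (stabIn S ω) z).card → z ∈ orbF (stabIn S ω) y) :
    ∃ z ∈ orbF S x, orbF (stabIn S ω) z = orbF S x := by
  obtain ⟨c, hc⟩ := card_orbF_pow hS2 x
  have hS2' : IsPGroup 2 (stabIn S ω) := hS2.to_le (stabIn_le S ω)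
  have hsub : ∀ y ∈ orbF S x, orbF (stabIn S ω) y ⊆ orbF S x := by
    intro y hy
    rw [← orbF_eq_of_mem hy]
    exact orbF_mono (stabIn_le S ω) y
  by_contra hcon
  simp only [not_exists, not_and] at hcon
  -- every S'-orbit in O has size 2^c' with c' < c
  have hlt : ∀ y ∈ orbF S x, ∃ c' ≤ c - 1, (orbF (stabIn S ω) y).card = 2 ^ c' ∧ c' < c := by
    intro y hy
    obtain ⟨c', hc'⟩ := card_orbF_pow hS2' y
    have hcard : (orbF (stabIn S ω) y).card < (orbF S x).card := by
      apply Finset.card_lt_card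
      exact (hsub y hy).ssubset_of_ne (hcon y hy)
    rw [hc, hc'] at hcard
    have : c' < c := (Nat.pow_lt_pow_iff_right (by norm_num : 1 < 2)).1 hcard
    exact ⟨c', by omega, hc', this⟩
  have hc1 : 1 ≤ c := by
    obtain ⟨c', _, _, h⟩ := hlt x (self_mem_orbF S x)
    omega
  have := card_lt_of_distinct (S' := stabIn S ω) (orbF S x) (c - 1)
    (fun y hy => by
      obtain ⟨c', h1, h2, _⟩ := hlt y hy
      exact ⟨c', h1, h2⟩) hdist
  rw [hc, Nat.sub_add_cancel hc1] at this
  exact lt_irrefl _ this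

end Cfsg.Agent.S2222L
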