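import Mathlib
import Cfsg.Agent.Lib.S2222.O1
import Cfsg.Agent.Lib.S2222.O2
import Cfsg.Agent.Lib.S2222.I
import Cfsg.Agent.Lib.S2222.L
import Cfsg.Agent.Lib.S2222.Bit

set_option autoImplicit false
set_option linter.unusedSectionVars false
open Equiv Equiv.Perm MulAction

namespace Cfsg.Agent.S2222L

variable {α : Type*} [Fintype α] [DecidableEq α]

/-- an `S`-orbit of a point outside the orbit of `ω` does not contain `ω`. -/
theorem DS_not_mem {S : Subgroup (Perm α)} {ω x : α} (h : x ∉ orbF S ω) : ω ∉ orbF S x := by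
  intro h'
  apply h
  rw [orbF_eq_of_mem h']
  exact self_mem_orbF S x

theorem DS_pow_inj {a b : ℕ} (h : 2 ^ a = 2 ^ b) : a = b :=
  Nat.pow_right_injective (le_refl 2) h

/-- Claim A: an `S`-orbit avoiding `ω` is a single orbit of `stabIn S ω`. -/
theorem DS_claimA {s : Finset α} {S : Subgroup (Perm α)} (hS : IsSyl s S) {ω : α}
    (hS' : IsSyl (s.erase ω) (stabIn S ω)) (hD' : DProp (s.erase ω) (stabIn S ω))
    {x : α} (hx : x ∈ s) (hxω : ω ∉ orbF S x) :
    ∃ z ∈ orbF S x, z ∈ s.erase ω ∧ orbF (stabIn S ω) z = orbF S x := by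
  have hsub : orbF S x ⊆ s := orbF_subset hS.2.1 hx
  have hmem : ∀ y ∈ orbF S x, y ∈ s.erase ω := by
    intro y hy
    refine Finset.mem_erase.2 ⟨?_, hsub hy⟩
    rintro rfl
    exact hxω hy
  obtain ⟨z, hz, hzeq⟩ := orbF_eq_orbF_stabIn hS.1 ω x hxω (by
    intro y hy z hz heq
    obtain ⟨c, hc⟩ := card_orbF_pow hS'.1 y
    exact (hD' y (hmem y hy) c hc).2 z (hmem z hz) (by rw [← heq, hc]))
  exact ⟨z, hz, hmem z hz, hzeq⟩

theorem D_step {s : Finset α} {S : Subgroup (Perm α)} (h5 : 5 ≤ s.card) (hS : IsSyl s S)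
    (ih : ∀ ω ∈ s, IsSyl (s.erase ω) (stabIn S ω) → DProp (s.erase ω) (stabIn S ω)) :
    DProp s S := by
  have h3 : 3 ≤ s.card := by omega
  have hm : 0 < s.card := by omega
  obtain ⟨ω, hω, hωc⟩ := exists_min_orbF h3 hS
  have hS' : IsSyl (s.erase ω) (stabIn S ω) := isSyl_stabIn h3 hS hω hωc
  have hD' : DProp (s.erase ω) (stabIn S ω) := ih ω hω hS'
  have hcard' : (s.erase ω).card = s.card - 1 := Finset.card_erase_of_mem hω
  set t := padicValNat 2 s.card with ht
  have hbit_t : Nat.testBit (s.card - 1) t = false := testBit_pred_padicVal s.card hm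
  -- an orbit avoiding ω of size 2^c : bit c of m-1 is set, c > t
  have key : ∀ x ∈ s, x ∉ orbF S ω → ∀ c, (orbF S x).card = 2 ^ c →
      t < c ∧ ∃ z ∈ orbF S x, z ∈ s.erase ω ∧ orbF (stabIn S ω) z = orbF S x := by
    intro x hx hxω c hc
    obtain ⟨z, hz, hzs, hzeq⟩ := DS_claimA hS hS' hD' hx (DS_not_mem hxω)
    have hb := (hD' z hzs c (by rw [hzeq, hc])).1
    rw [hcard'] at hb
    have htc : t ≤ c := by
      have := two_pow_dvd_card_orbF h3 hS hx
      rw [hc] at this
      exact (Nat.pow_dvd_pow_iff_le_right (le_refl 2)).1 this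
    have hne : t ≠ c := by
      intro h
      rw [h] at hbit_t
      rw [hbit_t] at hb
      exact Bool.false_ne_true hb
    exact ⟨lt_of_le_of_ne htc hne, z, hz, hzs, hzeq⟩
  intro x hx c hc
  by_cases hxω : x ∈ orbF S ω
  · -- Case 1
    have hxeq : orbF S x = orbF S ω := orbF_eq_of_mem hxω
    have hct : c = t := by
      rw [hxeq, hωc] at hc
      exact (DS_pow_inj hc).symm
    subst hct
    refine ⟨testBit_padicVal s.card hm, ?_⟩
    intro y hy hyc
    by_contra hyx
    rw [hxeq] at hyx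
    have := (key y hy hyx _ hyc).1
    exact lt_irrefl _ this
  · -- Case 2
    obtain ⟨htc, z, hz, hzs, hzeq⟩ := key x hx hxω c hc
    have hDz := hD' z hzs c (by rw [hzeq, hc])
    refine ⟨?_, ?_⟩
    · have := hDz.1
      rw [hcard'] at this
      rw [← testBit_pred_of_gt s.card c hm htc]
      exact this
    · intro y hy hyc
      have hyω : y ∉ orbF S ω := by
        intro h
        have h1 : orbF S y = orbF S ω := orbF_eq_of_mem h
        rw [h1, hωc] at hyc
        have := DS_pow_inj hyc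
        omega
      obtain ⟨_, z', hz', hzs', hzeq'⟩ := key y hy hyω c hyc
      have h1 : z' ∈ orbF (stabIn S ω) z := hDz.2 z' hzs' (by rw [hzeq', hyc])
      rw [hzeq] at h1
      -- z' ∈ orbF S x ∩ orbF S y
      have h2 : orbF S z' = orbF S x := orbF_eq_of_mem h1
      have h3' : orbF S z' = orbF S y := orbF_eq_of_mem hz'
      rw [← h2, h3']
      exact self_mem_orbF S y

end Cfsg.Agent.S2222L
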