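import Mathlib
import Cfsg.Agent.Lib.S2222.Defs

/-!
S2222 piece N1 (helper2): to show that a 2-subgroup `S` of odd index in `AltOn s` is
self-normalizing it suffices to treat normalizing elements of odd prime power order.
-/

set_option autoImplicit false
set_option linter.unusedSectionVars false
open Equiv Equiv.Perm MulAction

namespace Cfsg.Agent.S2222L

variable {α : Type*} [Fintype α] [DecidableEq α]

/-- powers of a normalizing element normalize. -/
theorem N1_pow_normalizes {S : Subgroup (Perm α)} {g : Perm α}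
    (hn : ∀ x, x ∈ S ↔ g * x * g⁻¹ ∈ S) (j : ℕ) :
    ∀ x, x ∈ S ↔ g ^ j * x * (g ^ j)⁻¹ ∈ S := by
  have h1 : g ∈ Subgroup.normalizer (S : Set (Perm α)) := Subgroup.mem_normalizer_iff.2 hn
  exact Subgroup.mem_normalizer_iff.1 (Subgroup.pow_mem _ h1 j)

/-- a 2-element of `AltOn s` normalizing `S` lies in `S`. -/
theorem N1_two_element_mem {s : Finset α} {S : Subgroup (Perm α)} (hS : IsSyl s S)
    (g : Perm α) (hg : g ∈ AltOn s) (hn : ∀ x, x ∈ S ↔ g * x * g⁻¹ ∈ S) (a : ℕ)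
    (hga : g ^ (2 ^ a) = 1) : g ∈ S := by
  have : Fact (Nat.Prime 2) := ⟨Nat.prime_two⟩
  obtain ⟨hS2, hSle, k, hk, hcard⟩ := hS
  -- `S` as a subgroup of `AltOn s`
  have hP : IsPGroup 2 ↥(S.subgroupOf (AltOn s)) := hS2.comap_subtype
  have hcardS : Nat.card ↥(S.subgroupOf (AltOn s)) = Nat.card ↥S :=
    Nat.card_congr (Subgroup.subgroupOfEquivOfLe hSle).toEquiv
  have hidx : (S.subgroupOf (AltOn s)).index = k := by
    have h1 := (S.subgroupOf (AltOn s)).index_mul_card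
    rw [hcardS, hcard] at h1
    exact Nat.eq_of_mul_eq_mul_right Nat.card_pos h1
  have hnd : ¬ 2 ∣ (S.subgroupOf (AltOn s)).index := by
    rw [hidx]
    intro h2
    exact (Nat.not_even_iff_odd.2 hk) (even_iff_two_dvd.2 h2)
  -- the Sylow 2-subgroup of `AltOn s` given by `S`
  obtain ⟨Q, hQ⟩ : ∃ Q : Sylow 2 ↥(AltOn s), (Q : Subgroup ↥(AltOn s)) = S.subgroupOf (AltOn s) :=
    ⟨hP.toSylow hnd, rfl⟩
  have hg' : (⟨g, hg⟩ : ↥(AltOn s)) ∈ Subgroup.normalizer ((Q : Subgroup ↥(AltOn s)) : Set _) := by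
    rw [Subgroup.mem_normalizer_iff]
    intro x
    rw [hQ, Subgroup.mem_subgroupOf, Subgroup.mem_subgroupOf]
    exact hn x
  have hZ : IsPGroup 2 ↥(Subgroup.zpowers (⟨g, hg⟩ : ↥(AltOn s))) := by
    intro y
    refine ⟨a, ?_⟩
    obtain ⟨y, hy⟩ := y
    obtain ⟨j, rfl⟩ := Subgroup.mem_zpowers_iff.1 hy
    apply Subtype.ext
    apply Subtype.ext
    show ((g ^ j) ^ (2 ^ a) : Perm α) = 1
    rw [← zpow_natCast, ← zpow_mul, mul_comm, zpow_mul, zpow_natCast, hga, one_zpow]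
  have hinf := hZ.inf_normalizer_sylow Q
  have hmem : (⟨g, hg⟩ : ↥(AltOn s)) ∈
      Subgroup.zpowers (⟨g, hg⟩ : ↥(AltOn s)) ⊓ (Q : Subgroup ↥(AltOn s)) := by
    rw [← hinf]
    exact ⟨Subgroup.mem_zpowers _, hg'⟩
  have h2 : (⟨g, hg⟩ : ↥(AltOn s)) ∈ (Q : Subgroup ↥(AltOn s)) := hmem.2
  rw [hQ] at h2
  exact Subgroup.mem_subgroupOf.1 h2

/-- reduction to elements of odd prime power order. -/
theorem SN_odd_reduction {s : Finset α} {S : Subgroup (Perm α)} (hS : IsSyl s S)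
    (h : ∀ g ∈ AltOn s, (∀ x, x ∈ S ↔ g * x * g⁻¹ ∈ S) → ∀ r k : ℕ, r.Prime → r ≠ 2 →
      orderOf g = r ^ k → g = 1) : SNProp s S := by
  -- Claim A: normalizing elements of odd order are trivial
  have claimA : ∀ x ∈ AltOn s, (∀ y, y ∈ S ↔ x * y * x⁻¹ ∈ S) → Odd (orderOf x) → x = 1 := by
    intro x hx hnx hodd
    by_contra hx1
    have ho1 : orderOf x ≠ 1 := fun h1 => hx1 (orderOf_eq_one_iff.1 h1)
    have ho0 : orderOf x ≠ 0 := (orderOf_pos x).ne'
    obtain ⟨r, hr, hrdvd⟩ := Nat.exists_prime_and_dvd ho1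
    have hr2 : r ≠ 2 := by
      rintro rfl
      exact (Nat.not_even_iff_odd.2 hodd) (even_iff_two_dvd.2 hrdvd)
    obtain ⟨e, q, hq, heq⟩ := Nat.exists_eq_pow_mul_and_not_dvd ho0 r hr.ne_one
    have hq0 : q ≠ 0 := by
      rintro rfl
      exact hq (dvd_zero r)
    have hord : orderOf (x ^ q) = r ^ e := by
      rw [orderOf_pow' x hq0, heq, Nat.gcd_eq_right (Dvd.intro_left _ rfl),
        Nat.mul_div_cancel _ (Nat.pos_of_ne_zero hq0)]
    have h1 : x ^ q = 1 :=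
      h (x ^ q) (Subgroup.pow_mem _ hx q) (N1_pow_normalizes hnx q) r e hr hr2 hord
    have h2 : orderOf x ∣ q := orderOf_dvd_of_pow_eq_one h1
    exact hq (hrdvd.trans h2)
  intro g hg hn
  have ho0 : orderOf g ≠ 0 := (orderOf_pos g).ne'
  obtain ⟨a, b, hb, heq⟩ := Nat.exists_eq_pow_mul_and_not_dvd ho0 2 (by norm_num)
  have hb0 : b ≠ 0 := by
    rintro rfl
    exact hb (dvd_zero 2)
  have hbodd : Odd b := by
    rw [← Nat.not_even_iff_odd, even_iff_two_dvd]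
    exact hb
  have h2a : (2 : ℕ) ^ a ≠ 0 := by positivity
  have hord : orderOf (g ^ (2 ^ a)) = b := by
    rw [orderOf_pow' g h2a, heq, Nat.gcd_eq_right (Dvd.intro _ rfl),
      Nat.mul_div_cancel_left _ (Nat.pos_of_ne_zero h2a)]
  have h1 : g ^ (2 ^ a) = 1 :=
    claimA (g ^ (2 ^ a)) (Subgroup.pow_mem _ hg _) (N1_pow_normalizes hn _) (by rw [hord]; exact hbodd)
  exact N1_two_element_mem hS g hg hn a h1

end Cfsg.Agent.S2222L
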