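import Mathlib
import Cfsg.Agent.Lib.S2222.Defs
import Cfsg.Agent.Lib.S2222.O1
import Cfsg.Agent.Lib.S2222.N1
import Cfsg.Agent.Lib.S2222.I

/-!
S2222 piece N2 (helper2): a normalizing element of odd prime power order fixes a point of the
minimal orbit; the induction step of the self-normalizing property.
-/

set_option autoImplicit false
set_option linter.unusedSectionVars false
set_option linter.unusedVariables false
open Equiv Equiv.Perm MulAction

namespace Cfsg.Agent.S2222L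

variable {α : Type*} [Fintype α] [DecidableEq α]

/-- a permutation of `r`-power order (`r` an odd prime) preserving a finset of 2-power
cardinality fixes one of its points. -/
theorem N2_exists_fixed (g : Perm α) (O : Finset α) (hO : ∀ x, g x ∈ O ↔ x ∈ O)
    (r k t : ℕ) (hr : r.Prime) (hr2 : r ≠ 2) (hord : g ^ r ^ k = 1) (hc : O.card = 2 ^ t) :
    ∃ x ∈ O, g x = x := by
  have : Fact r.Prime := ⟨hr⟩
  have hσ : (g.subtypePerm hO) ^ r ^ k = 1 := by
    rw [Equiv.Perm.subtypePerm_pow]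
    ext x
    simp [Equiv.Perm.subtypePerm_apply, hord]
  have hmod := Equiv.Perm.card_compl_support_modEq hσ
  rw [Fintype.card_coe, hc] at hmod
  by_cases hemp : (g.subtypePerm hO).supportᶜ = ∅
  · exfalso
    rw [hemp, Finset.card_empty] at hmod
    have h1 : r ∣ 2 ^ t := (Nat.modEq_zero_iff_dvd.1 hmod.symm)
    have h2 : r ∣ 2 := hr.dvd_of_dvd_pow h1
    exact hr2 ((Nat.prime_dvd_prime_iff_eq hr Nat.prime_two).1 h2)
  · obtain ⟨x, hx⟩ := Finset.nonempty_iff_ne_empty.2 hemp
    rw [Finset.mem_compl, Equiv.Perm.mem_support, not_not] at hx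
    refine ⟨x.1, x.2, ?_⟩
    have := congrArg Subtype.val hx
    simpa [Equiv.Perm.subtypePerm_apply] using this

/-- membership in `AltOn (s.erase ω)` from membership in `AltOn s` and fixing `ω`. -/
theorem N2_mem_AltOn_erase {s : Finset α} {ω : α} {g : Perm α} (hg : g ∈ AltOn s)
    (hgω : g ω = ω) : g ∈ AltOn (s.erase ω) := by
  refine ⟨hg.1, fun x hx => ?_⟩
  by_cases hxω : x = ω
  · rw [hxω]; exact hgω
  · apply hg.2 x
    intro hxs
    exact hx (Finset.mem_erase.2 ⟨hxω, hxs⟩)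

/-- a normalizing element of odd prime power order fixes a point of the minimal orbit. -/
theorem SN_fix_min {s : Finset α} {S : Subgroup (Perm α)} (h4 : 4 ≤ s.card) (hS : IsSyl s S)
    (hD : DProp s S) (g : Perm α) (hg : g ∈ AltOn s) (hn : ∀ x, x ∈ S ↔ g * x * g⁻¹ ∈ S)
    (r k : ℕ) (hr : r.Prime) (hr2 : r ≠ 2) (hord : orderOf g = r ^ k) :
    ∃ ω ∈ s, (orbF S ω).card = 2 ^ (padicValNat 2 s.card) ∧ g ω = ω := by
  obtain ⟨ω₀, hω₀s, hcard⟩ := exists_min_orbF (by omega) hS
  have himg : (orbF S ω₀).image g = orbF S (g ω₀) := orbF_image_of_normalizes hn ω₀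
  have hcard' : (orbF S (g ω₀)).card = 2 ^ (padicValNat 2 s.card) := by
    rw [← himg, Finset.card_image_of_injective _ g.injective, hcard]
  have hgω₀s : g ω₀ ∈ s := O1_AltOn_apply_mem hg hω₀s
  have hmem : g ω₀ ∈ orbF S ω₀ := (hD ω₀ hω₀s _ hcard).2 (g ω₀) hgω₀s hcard'
  have hOeq : (orbF S ω₀).image g = orbF S ω₀ := by
    rw [himg]; exact orbF_eq_of_mem hmem
  -- `g` preserves the orbit
  have hO : ∀ x, g x ∈ orbF S ω₀ ↔ x ∈ orbF S ω₀ := by
    intro x
    constructor
    · intro hx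
      rw [← hOeq] at hx
      obtain ⟨y, hy, hyx⟩ := Finset.mem_image.1 hx
      rw [← g.injective hyx]; exact hy
    · intro hx
      rw [← hOeq]
      exact Finset.mem_image_of_mem g hx
  have hgpow : g ^ r ^ k = 1 := by rw [← hord]; exact pow_orderOf_eq_one g
  obtain ⟨ω, hωO, hgω⟩ := N2_exists_fixed g (orbF S ω₀) hO r k _ hr hr2 hgpow hcard
  refine ⟨ω, orbF_subset hS.2.1 hω₀s hωO, ?_, hgω⟩
  rw [orbF_eq_of_mem hωO]; exact hcard

theorem SN_step {s : Finset α} {S : Subgroup (Perm α)} (h7 : 7 ≤ s.card) (hS : IsSyl s S)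
    (hD : DProp s S)
    (ih : ∀ ω ∈ s, IsSyl (s.erase ω) (stabIn S ω) → SNProp (s.erase ω) (stabIn S ω)) :
    SNProp s S := by
  apply SN_odd_reduction hS
  intro g hg hn r k hr hr2 hord
  obtain ⟨ω, hωs, hc, hgω⟩ := SN_fix_min (by omega) hS hD g hg hn r k hr hr2 hord
  have hS' : IsSyl (s.erase ω) (stabIn S ω) := isSyl_stabIn (by omega) hS hωs hc
  have hg' : g ∈ AltOn (s.erase ω) := N2_mem_AltOn_erase hg hgω
  have hginv : g⁻¹ ω = ω := by
    rw [Perm.inv_eq_iff_eq]; exact hgω.symm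
  have hn' : ∀ x, x ∈ stabIn S ω ↔ g * x * g⁻¹ ∈ stabIn S ω := by
    intro x
    rw [mem_stabIn, mem_stabIn, ← hn x]
    have hiff : (g * x * g⁻¹) ω = ω ↔ x ω = ω := by
      rw [Perm.mul_apply, Perm.mul_apply, hginv]
      constructor
      · intro h1
        apply g.injective
        rw [h1, hgω]
      · intro h1
        rw [h1, hgω]
    rw [hiff]
  have hmem : g ∈ stabIn S ω := ih ω hωs hS' g hg' hn'
  have hgS : g ∈ S := (mem_stabIn.1 hmem).1
  -- `g` is a 2-element of odd prime power order, hence trivial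
  obtain ⟨j, hj⟩ := hS.1 ⟨g, hgS⟩
  have hj' : g ^ 2 ^ j = 1 := by
    have := congrArg Subtype.val hj
    simpa using this
  have hdvd : orderOf g ∣ 2 ^ j := orderOf_dvd_of_pow_eq_one hj'
  rw [hord] at hdvd
  rcases Nat.eq_zero_or_pos k with hk | hk
  · rw [hk, pow_zero] at hord
    exact orderOf_eq_one_iff.1 hord
  · exfalso
    have h1 : r ∣ 2 ^ j := (dvd_pow_self r hk.ne').trans hdvd
    have h2 : r ∣ 2 := hr.dvd_of_dvd_pow h1
    exact hr2 ((Nat.prime_dvd_prime_iff_eq hr Nat.prime_two).1 h2)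

end Cfsg.Agent.S2222L
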