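import Mathlib
import Cfsg.Agent.Lib.S2222.Defs
import Cfsg.Agent.Lib.S2222.A1
import Cfsg.Agent.Lib.S2222.A2
import Cfsg.Agent.Lib.S2222.O1
import Cfsg.Agent.Lib.S2222.O2
import Cfsg.Agent.Lib.S2222.N1
import Cfsg.Agent.Lib.S2222.N2

/-!
# S2222 piece N3 (helper8): even involutions, and the base case `m = 6` of self-normalization
-/

set_option autoImplicit false
set_option linter.unusedSectionVars false
open Equiv Equiv.Perm MulAction

namespace Cfsg.Agent.S2222L

variable {α : Type*} [Fintype α] [DecidableEq α]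

/-- an even involution moves a number of points divisible by 4. -/
theorem four_dvd_card_support {u : Perm α} (hu : u * u = 1) (hs : Perm.sign u = 1) :
    4 ∣ u.support.card := by
  have hord : orderOf u ∣ 2 := orderOf_dvd_of_pow_eq_one (by rw [pow_two]; exact hu)
  have hall : ∀ n ∈ u.cycleType, n = 2 := by
    intro n hn
    have h1 : n ∣ 2 := dvd_trans (Equiv.Perm.dvd_of_mem_cycleType hn) hord
    have h2 : 2 ≤ n := Equiv.Perm.two_le_of_mem_cycleType hn
    have h3 : n ≤ 2 := Nat.le_of_dvd (by norm_num) h1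
    omega
  have hrep : u.cycleType = Multiset.replicate (Multiset.card u.cycleType) 2 :=
    Multiset.eq_replicate_card.2 hall
  have hsum : u.cycleType.sum = Multiset.card u.cycleType * 2 := by
    conv_lhs => rw [hrep]
    rw [Multiset.sum_replicate, smul_eq_mul]
  have hsign := Equiv.Perm.sign_of_cycleType u
  rw [hs, hsum] at hsign
  have hev : Even (Multiset.card u.cycleType) := by
    by_contra hodd
    rw [Nat.not_even_iff_odd] at hodd
    have : Odd (Multiset.card u.cycleType * 2 + Multiset.card u.cycleType) := by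
      obtain ⟨j, hj⟩ := hodd
      exact ⟨3 * j + 1, by rw [hj]; ring⟩
    rw [this.neg_one_pow] at hsign
    revert hsign; decide
  rw [← Equiv.Perm.sum_cycleType, hsum]
  obtain ⟨j, hj⟩ := hev
  exact ⟨j, by rw [hj]; ring⟩

theorem N3_padic_six : padicValNat 2 6 = 1 := by
  have : (6:ℕ) = 2 * 3 := by norm_num
  rw [this, padicValNat.mul (by norm_num) (by norm_num)]
  simp [padicValNat.eq_zero_of_not_dvd]

/-- a "Sylow" of `AltOn s`, `|s| = 6`, has order 8 -/
theorem N3_card_S {s : Finset α} {S : Subgroup (Perm α)} (h6 : s.card = 6) (hS : IsSyl s S) :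
    Nat.card S = 8 := by
  obtain ⟨hp, _, k, hk, hcard⟩ := hS
  rw [card_AltOn_six h6] at hcard
  obtain ⟨j, hj⟩ := IsPGroup.iff_card.1 hp
  rw [hj] at hcard ⊢
  have hj3 : j ≤ 3 := by
    by_contra hlt
    have hlt : 4 ≤ j := by omega
    have h16 : 2 ^ 4 ∣ 360 := by
      refine dvd_trans (pow_dvd_pow 2 hlt) ?_
      exact Dvd.intro_left k hcard.symm
    revert h16; decide
  obtain ⟨i, hi⟩ := hk
  interval_cases j <;> omega

/-- a permutation of odd prime power order supported on at most 4 points moves at most 3 -/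
theorem N3_card_support_lt {g : Perm α} {r k : ℕ} (hr : r.Prime) (hr2 : r ≠ 2)
    (hord : orderOf g = r ^ k) (h4 : g.support.card ≤ 4) : g.support.card < 4 := by
  have hdvd : r ∣ g.support.card := by
    rw [← Equiv.Perm.sum_cycleType]
    apply Multiset.dvd_sum
    intro n hn
    have h1 : n ∣ r ^ k := hord ▸ Equiv.Perm.dvd_of_mem_cycleType hn
    have h2 : 2 ≤ n := Equiv.Perm.two_le_of_mem_cycleType hn
    obtain ⟨j, _, rfl⟩ := (Nat.dvd_prime_pow hr).1 h1
    rcases Nat.eq_zero_or_pos j with h0 | hpos
    · subst h0; simp at h2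
    · exact dvd_pow_self r (by omega)
  by_contra hge
  have h4' : g.support.card = 4 := by omega
  rw [h4'] at hdvd
  have hr4 : r ≤ 4 := Nat.le_of_dvd (by norm_num) hdvd
  have hr1 : 2 ≤ r := hr.two_le
  interval_cases r
  · exact hr2 rfl
  · revert hdvd; decide
  · revert hr; decide

theorem SN_base {s : Finset α} {S : Subgroup (Perm α)} (h6 : s.card = 6) (hS : IsSyl s S)
    (hD : DProp s S) : SNProp s S := by
  classical
  apply SN_odd_reduction hS
  intro g hg hn r k hr hr2 hord
  have hSle : S ≤ AltOn s := hS.2.1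
  have hS2 : IsPGroup 2 S := hS.1
  have hcardS : Nat.card S = 8 := N3_card_S h6 hS
  obtain ⟨ω, hω, hcω, hgω⟩ := SN_fix_min (by omega) hS hD g hg hn r k hr hr2 hord
  rw [h6, N3_padic_six, pow_one] at hcω
  -- the orbit of ω is {ω, ω'}
  obtain ⟨p, q, hpq, hpair⟩ := Finset.card_eq_two.1 hcω
  have hωmem : ω ∈ orbF S ω := self_mem_orbF S ω
  obtain ⟨ω', hω'ne, horb⟩ : ∃ ω', ω' ≠ ω ∧ orbF S ω = {ω, ω'} := by
    rw [hpair] at hωmem
    rcases Finset.mem_insert.1 hωmem with h | h
    · subst h
      exact ⟨q, fun h => hpq h.symm, hpair⟩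
    · have h := Finset.mem_singleton.1 h
      subst h
      exact ⟨p, hpq, by rw [hpair, Finset.pair_comm]⟩
  have hω'mem : ω' ∈ orbF S ω := by rw [horb]; simp
  have hω's : ω' ∈ s := orbF_subset hSle hω hω'mem
  -- g fixes ω'
  have hgω' : g ω' = ω' := by
    have h1 : g ω' ∈ (orbF S ω).image g := Finset.mem_image_of_mem g hω'mem
    rw [orbF_image_of_normalizes hn ω, hgω, horb] at h1
    rcases Finset.mem_insert.1 h1 with h | h
    · exfalso
      apply hω'ne
      apply g.injective
      rw [h, hgω]
    · exact Finset.mem_singleton.1 h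
  -- every other point of s has an orbit of size 4
  have horb4 : ∀ a ∈ s, a ≠ ω → a ≠ ω' → (orbF S a).card = 4 := by
    intro a ha haω haω'
    obtain ⟨c, hc⟩ := card_orbF_pow hS2 a
    have hsub : orbF S a ⊆ s := orbF_subset hSle ha
    have hle : (orbF S a).card ≤ 6 := h6 ▸ Finset.card_le_card hsub
    rw [hc] at hle
    have hc2 : c ≤ 2 := by
      by_contra hlt
      have hlt : 3 ≤ c := by omega
      have : 2 ^ 3 ≤ 2 ^ c := Nat.pow_le_pow_right (by norm_num) hlt
      omega
    obtain ⟨hbit, hsame⟩ := hD a ha c hc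
    rw [h6] at hbit
    interval_cases c
    · exfalso; revert hbit; decide
    · exfalso
      have h1 := (hD ω hω 1 (by rw [hcω]; norm_num)).2 a ha hc
      rw [horb] at h1
      rcases Finset.mem_insert.1 h1 with h | h
      · exact haω h
      · exact haω' (Finset.mem_singleton.1 h)
    · rw [hc]; norm_num
  -- T = s ∖ {ω, ω'} has 4 points and contains the support of g
  set T : Finset α := (s.erase ω).erase ω' with hT
  have hTcard : T.card = 4 := by
    rw [hT, Finset.card_erase_of_mem (Finset.mem_erase.2 ⟨hω'ne, hω's⟩),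
      Finset.card_erase_of_mem hω, h6]
  have hsuppT : g.support ⊆ T := by
    intro x hx
    rw [Equiv.Perm.mem_support] at hx
    rw [hT, Finset.mem_erase, Finset.mem_erase]
    refine ⟨?_, ?_, ?_⟩
    · rintro rfl; exact hx hgω'
    · rintro rfl; exact hx hgω
    · by_contra hxs
      exact hx (hg.2 x hxs)
  have hsupp_lt : g.support.card < 4 :=
    N3_card_support_lt hr hr2 hord (hTcard ▸ Finset.card_le_card hsuppT)
  -- a fixed point a of g in T
  obtain ⟨a, haT, hasupp⟩ : ∃ a ∈ T, a ∉ g.support := by
    by_contra hcon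
    push Not at hcon
    have : T ⊆ g.support := hcon
    have := Finset.card_le_card this
    omega
  have hga : g a = a := by
    rw [Equiv.Perm.mem_support, not_not] at hasupp
    exact hasupp
  have haω' : a ≠ ω' := (Finset.mem_erase.1 haT).1
  have haω : a ≠ ω := (Finset.mem_erase.1 (Finset.mem_erase.1 haT).2).1
  have has : a ∈ s := (Finset.mem_erase.1 (Finset.mem_erase.1 haT).2).2
  -- the stabilizer of a in S has order 2
  have hstab2 : Nat.card (stabIn S a) = 2 := by
    have h1 := card_orbF_mul S a
    rw [horb4 a has haω haω', hcardS] at h1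
    omega
  obtain ⟨⟨u, hu⟩, hune, huniq⟩ := (Nat.card_eq_two_iff' (1 : stabIn S a)).1 hstab2
  have hu1 : u ≠ 1 := by
    intro h
    apply hune
    exact Subtype.ext h
  have huS : u ∈ S := (mem_stabIn.1 hu).1
  have hua : u a = a := (mem_stabIn.1 hu).2
  have huA : u ∈ AltOn s := hSle huS
  -- u is an involution
  have huu : u * u = 1 := by
    have h1 : (⟨u, hu⟩ : stabIn S a) ^ Nat.card (stabIn S a) = 1 := pow_card_eq_one'
    rw [hstab2] at h1
    have h2 := congrArg Subtype.val h1
    simpa [pow_two] using h2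
  -- |supp u| = 4
  have hsuppu_sub : u.support ⊆ s.erase a := by
    intro x hx
    rw [Equiv.Perm.mem_support] at hx
    rw [Finset.mem_erase]
    refine ⟨?_, ?_⟩
    · rintro rfl; exact hx hua
    · by_contra hxs
      exact hx (huA.2 x hxs)
  have hsuppu : u.support.card = 4 := by
    have h4 := four_dvd_card_support huu huA.1
    have hle : u.support.card ≤ 5 := by
      have := Finset.card_le_card hsuppu_sub
      rw [Finset.card_erase_of_mem has, h6] at this
      exact this
    have hne0 : u.support.card ≠ 0 := by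
      intro h0
      apply hu1
      rw [Finset.card_eq_zero, Equiv.Perm.support_eq_empty_iff] at h0
      exact h0
    obtain ⟨j, hj⟩ := h4
    omega
  -- the fixed points of u in s are a and z
  have hsuppu_s : u.support ⊆ s := fun x hx => (Finset.mem_erase.1 (hsuppu_sub hx)).2
  have hfix2 : (s \ u.support).card = 2 := by
    rw [Finset.card_sdiff_of_subset hsuppu_s, h6, hsuppu]
  obtain ⟨p', q', hpq', hpair'⟩ := Finset.card_eq_two.1 hfix2
  have hamem : a ∈ s \ u.support := by
    rw [Finset.mem_sdiff, Equiv.Perm.mem_support, not_not]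
    exact ⟨has, hua⟩
  obtain ⟨z, hza, hfix⟩ : ∃ z, z ≠ a ∧ s \ u.support = {a, z} := by
    rw [hpair'] at hamem
    rcases Finset.mem_insert.1 hamem with h | h
    · subst h
      exact ⟨q', fun h => hpq' h.symm, hpair'⟩
    · have h := Finset.mem_singleton.1 h
      subst h
      exact ⟨p', hpq', by rw [hpair', Finset.pair_comm]⟩
  have hzmem : z ∈ s \ u.support := by rw [hfix]; simp
  have hzs : z ∈ s := (Finset.mem_sdiff.1 hzmem).1
  have huz : u z = z := by
    have := (Finset.mem_sdiff.1 hzmem).2
    rwa [Equiv.Perm.mem_support, not_not] at this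
  -- g centralizes u
  have hgu : g * u * g⁻¹ = u := by
    have hmem : g * u * g⁻¹ ∈ stabIn S a := by
      rw [mem_stabIn]
      refine ⟨(hn u).1 huS, ?_⟩
      have hginv : g⁻¹ a = a := by rw [Perm.inv_eq_iff_eq, hga]
      simp only [Perm.mul_apply, hginv, hua, hga]
    have hne : (⟨g * u * g⁻¹, hmem⟩ : stabIn S a) ≠ 1 := by
      intro h
      have h2 : g * u * g⁻¹ = 1 := congrArg Subtype.val h
      apply hu1
      have : u = g⁻¹ * (g * u * g⁻¹) * g := by group
      rw [this, h2]; group
    have h3 := huniq ⟨g * u * g⁻¹, hmem⟩ hne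
    exact congrArg Subtype.val h3
  have hcomm : ∀ x, u (g x) = g (u x) := by
    intro x
    have h1 : (g * u * g⁻¹) (g x) = u (g x) := by rw [hgu]
    simp only [Perm.mul_apply] at h1
    have h2 : g⁻¹ (g x) = x := by simp
    rw [h2] at h1
    exact h1.symm
  -- g fixes z
  have hgz : g z = z := by
    have h1 : g z ∈ s \ u.support := by
      rw [Finset.mem_sdiff, Equiv.Perm.mem_support, not_not]
      exact ⟨AltOn_apply_mem hg hzs, by rw [hcomm, huz]⟩
    rw [hfix] at h1
    rcases Finset.mem_insert.1 h1 with h | h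
    · exfalso
      apply hza
      apply g.injective
      rw [h, hga]
    · exact Finset.mem_singleton.1 h
  -- u preserves {ω, ω'}
  have hu_orb : ∀ x ∈ orbF S ω, u x ∈ orbF S ω := by
    intro x hx
    have := apply_mem_orbF huS x
    rwa [orbF_eq_of_mem hx] at this
  -- z is neither ω nor ω'
  have hzω : z ≠ ω := by
    rintro rfl
    have h1 : u ω' ∈ orbF S z := hu_orb ω' hω'mem
    rw [horb] at h1
    have h2 : u ω' = ω' := by
      rcases Finset.mem_insert.1 h1 with h | h
      · exfalso
        apply hω'ne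
        apply u.injective
        rw [h, huz]
      · exact Finset.mem_singleton.1 h
    have h3 : ω' ∈ s \ u.support := by
      rw [Finset.mem_sdiff, Equiv.Perm.mem_support, not_not]
      exact ⟨hω's, h2⟩
    rw [hfix] at h3
    rcases Finset.mem_insert.1 h3 with h | h
    · exact haω' h.symm
    · exact hω'ne (Finset.mem_singleton.1 h)
  have hzω' : z ≠ ω' := by
    rintro rfl
    have h1 : u ω ∈ orbF S ω := hu_orb ω hωmem
    rw [horb] at h1
    have h2 : u ω = ω := by
      rcases Finset.mem_insert.1 h1 with h | h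
      · exact h
      · exfalso
        apply hω'ne
        apply u.injective
        rw [huz]
        exact (Finset.mem_singleton.1 h).symm
    have h3 : ω ∈ s \ u.support := by
      rw [Finset.mem_sdiff, Equiv.Perm.mem_support, not_not]
      exact ⟨hω, h2⟩
    rw [hfix] at h3
    rcases Finset.mem_insert.1 h3 with h | h
    · exact haω h.symm
    · exact hω'ne (Finset.mem_singleton.1 h).symm
  -- the two remaining points
  set R : Finset α := (T.erase a).erase z with hR
  have hzT : z ∈ T.erase a := by
    rw [Finset.mem_erase, hT, Finset.mem_erase, Finset.mem_erase]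
    exact ⟨hza, hzω', hzω, hzs⟩
  have hRcard : R.card = 2 := by
    rw [hR, Finset.card_erase_of_mem hzT, Finset.card_erase_of_mem haT, hTcard]
  obtain ⟨b₁, b₂, _, hRpair⟩ := Finset.card_eq_two.1 hRcard
  apply eq_one_of_AltOn_of_fix hg b₁ b₂
  intro x hx hx1 hx2
  by_cases hxz : x = z
  · rw [hxz]; exact hgz
  by_cases hxa : x = a
  · rw [hxa]; exact hga
  by_cases hxω' : x = ω'
  · rw [hxω']; exact hgω'
  by_cases hxω : x = ω
  · rw [hxω]; exact hgω
  exfalso
  have hxR : x ∈ R := by
    rw [hR, Finset.mem_erase, Finset.mem_erase, hT, Finset.mem_erase, Finset.mem_erase]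
    exact ⟨hxz, hxa, hxω', hxω, hx⟩
  rw [hRpair] at hxR
  rcases Finset.mem_insert.1 hxR with h | h
  · exact hx1 h
  · exact hx2 (Finset.mem_singleton.1 h)

end Cfsg.Agent.S2222L
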