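import Mathlib
import Cfsg.Agent.Lib.S2222.Defs

set_option autoImplicit false
set_option linter.unusedSectionVars false
set_option linter.style.haveILetI false
open Equiv Equiv.Perm MulAction

/-! S2222 piece T: transfer between `Sylow 2 (alternatingGroup (Fin n))` and `IsSyl univ`. -/

namespace Cfsg.Agent.S2222L

theorem T_mem_AltOn_univ {α : Type*} [Fintype α] [DecidableEq α] (g : Perm α) :
    g ∈ AltOn (Finset.univ : Finset α) ↔ g ∈ alternatingGroup α := by
  rw [mem_AltOn, Equiv.Perm.mem_alternatingGroup]
  constructor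
  · exact fun h => h.1
  · exact fun h => ⟨h, fun x hx => absurd (Finset.mem_univ x) hx⟩

theorem T_card_AltOn_univ {α : Type*} [Fintype α] [DecidableEq α] :
    Nat.card (AltOn (Finset.univ : Finset α)) = Nat.card (alternatingGroup α) := by
  have h : AltOn (Finset.univ : Finset α) = alternatingGroup α := by
    ext g
    exact T_mem_AltOn_univ g
  rw [h]

theorem isSyl_map_sylow (n : ℕ) (R : Sylow 2 ↥(alternatingGroup (Fin n))) :
    IsSyl (Finset.univ : Finset (Fin n))
      ((R : Subgroup ↥(alternatingGroup (Fin n))).map (alternatingGroup (Fin n)).subtype) := by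
  haveI : Fact (Nat.Prime 2) := ⟨Nat.prime_two⟩
  refine ⟨R.isPGroup'.map _, ?_, ?_⟩
  · rintro g ⟨r, -, rfl⟩
    exact (T_mem_AltOn_univ _).2 r.2
  · refine ⟨(R : Subgroup ↥(alternatingGroup (Fin n))).index, ?_, ?_⟩
    · have h := R.not_dvd_index
      rcases Nat.even_or_odd (R : Subgroup ↥(alternatingGroup (Fin n))).index with he | ho
      · exact absurd he.two_dvd h
      · exact ho
    · rw [T_card_AltOn_univ]
      have hc : Nat.card ((R : Subgroup ↥(alternatingGroup (Fin n))).map
          (alternatingGroup (Fin n)).subtype) = Nat.card (R : Subgroup ↥(alternatingGroup (Fin n))) :=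
        Subgroup.card_map_of_injective (Subgroup.subtype_injective _)
      rw [hc, Subgroup.index_mul_card]

/-- self-normalization in `alternatingGroup (Fin n)` from `SNProp` of the image in `Perm (Fin n)`. -/
theorem T_self_normalizing_of_SNProp (n : ℕ) (R : Sylow 2 ↥(alternatingGroup (Fin n)))
    (h : SNProp (Finset.univ : Finset (Fin n))
      ((R : Subgroup ↥(alternatingGroup (Fin n))).map (alternatingGroup (Fin n)).subtype)) :
    Subgroup.normalizer ((R : Subgroup ↥(alternatingGroup (Fin n))) : Set ↥(alternatingGroup (Fin n)))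
      = R := by
  apply le_antisymm
  · intro g hg
    rw [Subgroup.mem_normalizer_iff] at hg
    have hgS := h (g : Perm (Fin n)) ((T_mem_AltOn_univ _).2 g.2) ?_
    · obtain ⟨r, hr, hrg⟩ := hgS
      have : r = g := Subtype.ext hrg
      rw [← this]; exact hr
    · intro x
      constructor
      · rintro ⟨r, hr, rfl⟩
        exact ⟨g * r * g⁻¹, (hg r).1 hr, rfl⟩
      · rintro ⟨r', hr', hrx⟩
        refine ⟨g⁻¹ * r' * g, ?_, ?_⟩
        · apply (hg (g⁻¹ * r' * g)).2
          have e : g * (g⁻¹ * r' * g) * g⁻¹ = r' := by group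
          show g * (g⁻¹ * r' * g) * g⁻¹ ∈ (R : Subgroup ↥(alternatingGroup (Fin n)))
          rw [e]; exact hr'
        · show ((g⁻¹ * r' * g : alternatingGroup (Fin n)) : Perm (Fin n)) = x
          have e1 : ((g⁻¹ * r' * g : alternatingGroup (Fin n)) : Perm (Fin n)) =
              (g : Perm (Fin n))⁻¹ * (r' : Perm (Fin n)) * (g : Perm (Fin n)) := rfl
          have e2 : ((alternatingGroup (Fin n)).subtype r' : Perm (Fin n)) = (r' : Perm (Fin n)) := rfl
          rw [e2] at hrx
          rw [e1, hrx]
          group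
  · exact Subgroup.le_normalizer

end Cfsg.Agent.S2222L
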