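import Mathlib
import Cfsg.Agent.Lib.S2222.DBase
import Cfsg.Agent.Lib.S2222.DStep
import Cfsg.Agent.Lib.S2222.N2
import Cfsg.Agent.Lib.S2222.N3
import Cfsg.Agent.Lib.S2222.T

set_option autoImplicit false
set_option linter.unusedSectionVars false
open Equiv Equiv.Perm MulAction

namespace Cfsg.Agent.S2222L

/-! # S2222 glue: the two inductions and the Sylow statement (helper4) -/

variable {α : Type*} [Fintype α] [DecidableEq α]

theorem D_all : ∀ (n : ℕ) (s : Finset α) (S : Subgroup (Perm α)), s.card = n → 4 ≤ n →
    IsSyl s S → DProp s S := by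
  intro n
  induction n with
  | zero => intro s S _ h; omega
  | succ n ih =>
    intro s S hs h4 hS
    rcases Nat.lt_or_ge n 4 with h | h
    · have : n = 3 := by omega
      subst this
      exact D_base hs hS
    · apply D_step (by omega) hS
      intro ω hω hS'
      exact ih (s.erase ω) (stabIn S ω) (by rw [Finset.card_erase_of_mem hω, hs]; rfl) h hS'

theorem SN_all : ∀ (n : ℕ) (s : Finset α) (S : Subgroup (Perm α)), s.card = n → 6 ≤ n →
    IsSyl s S → SNProp s S := by
  intro n
  induction n with
  | zero => intro s S _ h; omega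
  | succ n ih =>
    intro s S hs h6 hS
    have hD := D_all (n + 1) s S hs (by omega) hS
    rcases Nat.lt_or_ge n 6 with h | h
    · have : n = 5 := by omega
      subst this
      exact SN_base hs hS hD
    · apply SN_step (by omega) hS hD
      intro ω hω hS'
      exact ih (s.erase ω) (stabIn S ω) (by rw [Finset.card_erase_of_mem hω, hs]; rfl) h hS'

theorem sylow_self_normalizing (n : ℕ) (hn : 6 ≤ n) (R : Sylow 2 ↥(alternatingGroup (Fin n))) :
    Subgroup.normalizer ((R : Subgroup ↥(alternatingGroup (Fin n))) : Set ↥(alternatingGroup (Fin n)))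
      = R :=
  T_self_normalizing_of_SNProp n R (SN_all n Finset.univ _ (by simp) hn (isSyl_map_sylow n R))

end Cfsg.Agent.S2222L
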