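import Mathlib
import Cfsg.Prelude.Def_HallClasses
import Cfsg.Agent.H2.PronormalA

/-!
# S2222 piece N5 (helper8): odd-index subgroups of `A_5` are pronormal

Odd index in `A_5` (order 60) is `1, 3, 5` or `15`. Index `1`: trivial. Prime index: the subgroup is
maximal (Lagrange), and maximal subgroups are pronormal. Index `15`: order `4`, a Sylow `2`-subgroup.
-/

set_option autoImplicit false
set_option linter.unusedSectionVars false

namespace Cfsg.Agent.S2222L

/-- a subgroup with only trivial overgroups is pronormal -/
theorem N5_pronormal_of_maximal {G : Type*} [Group G] [Finite G] (H : Subgroup G)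
    (hmax : ∀ K : Subgroup G, H ≤ K → K = H ∨ K = ⊤) : Cfsg.IsPronormal H := by
  intro g
  rcases hmax (H ⊔ H.map (MulAut.conj g).toMonoidHom) le_sup_left with h | h
  · have hle : H.map (MulAut.conj g).toMonoidHom ≤ H := by
      have : H.map (MulAut.conj g).toMonoidHom ≤ H ⊔ H.map (MulAut.conj g).toMonoidHom :=
        le_sup_right
      rwa [h] at this
    have hcard : Nat.card (H.map (MulAut.conj g).toMonoidHom) = Nat.card H :=
      Subgroup.card_map_of_injective (MulAut.conj g).injective
    have heq : H.map (MulAut.conj g).toMonoidHom = H :=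
      Subgroup.eq_of_le_of_card_ge hle (by rw [hcard])
    refine ⟨1, one_mem _, ?_⟩
    rw [heq]
    ext x
    simp
  · exact ⟨g, by rw [h]; exact Subgroup.mem_top g, rfl⟩

/-- a subgroup of prime index is pronormal -/
theorem pronormal_of_prime_index {G : Type*} [Group G] [Finite G] (H : Subgroup G)
    (hp : H.index.Prime) : Cfsg.IsPronormal H := by
  apply N5_pronormal_of_maximal
  intro K hHK
  have h1 : H.relIndex K * K.index = H.index := Subgroup.relIndex_mul_index hHK
  have h2 : K.index ∣ H.index := Dvd.intro_left _ h1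
  rcases (Nat.dvd_prime hp).1 h2 with h | h
  · right
    exact Subgroup.index_eq_one.1 h
  · left
    rw [h] at h1
    have h3 : H.relIndex K = 1 := by
      have hpos : 0 < H.index := hp.pos
      have : H.relIndex K * H.index = 1 * H.index := by rw [h1, one_mul]
      exact Nat.eq_of_mul_eq_mul_right hpos this
    exact le_antisymm (Subgroup.relIndex_eq_one.1 h3) hHK

theorem N5_card_alt5 : Nat.card (alternatingGroup (Fin 5)) = 60 := by
  have h := two_mul_nat_card_alternatingGroup (α := Fin 5)
  have h2 : Nat.card (Equiv.Perm (Fin 5)) = 120 := by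
    rw [Nat.card_eq_fintype_card, Fintype.card_perm, Fintype.card_fin]
    rfl
  omega

/-- odd-index subgroups of `A_5` are pronormal -/
theorem n5_pronormal (H : Subgroup (alternatingGroup (Fin 5))) (hH : Odd H.index) :
    Cfsg.IsPronormal H := by
  have hmul : Nat.card H * H.index = 60 := by
    rw [Subgroup.card_mul_index, N5_card_alt5]
  have hdvd : H.index ∣ 60 := Dvd.intro_left _ hmul
  have hle : H.index ≤ 60 := Nat.le_of_dvd (by norm_num) hdvd
  have hcases : H.index = 1 ∨ H.index = 3 ∨ H.index = 5 ∨ H.index = 15 := by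
    generalize H.index = i at hH hdvd hle
    interval_cases i <;> first | omega | (exfalso; revert hH; decide)
  rcases hcases with h | h | h | h
  · -- H = ⊤
    have : H = ⊤ := Subgroup.index_eq_one.1 h
    subst this
    intro g
    exact ⟨1, one_mem _, by ext x; simp⟩
  · exact pronormal_of_prime_index H (by rw [h]; norm_num)
  · exact pronormal_of_prime_index H (by rw [h]; norm_num)
  · -- order 4: Sylow 2-subgroup
    have hc : Nat.card H = 4 := by rw [h] at hmul; omega
    have : Fact (Nat.Prime 2) := ⟨Nat.prime_two⟩
    have hpg : IsPGroup 2 H := IsPGroup.of_card (n := 2) (by rw [hc]; norm_num)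
    obtain ⟨P, hP⟩ := hpg.exists_le_sylow
    obtain ⟨k, hk⟩ := IsPGroup.iff_card.1 P.2
    have hPdvd : Nat.card (P : Subgroup (alternatingGroup (Fin 5))) ∣ 60 := by
      rw [← N5_card_alt5]; exact Subgroup.card_subgroup_dvd_card _
    have hk2 : k ≤ 2 := by
      by_contra hlt
      have hlt : 3 ≤ k := by omega
      have h8 : 2 ^ 3 ∣ 60 := by
        refine dvd_trans (pow_dvd_pow 2 hlt) ?_
        rw [← hk]; exact hPdvd
      revert h8; decide
    have hPle : Nat.card (P : Subgroup (alternatingGroup (Fin 5))) ≤ Nat.card H := by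
      rw [hk, hc]
      calc 2 ^ k ≤ 2 ^ 2 := Nat.pow_le_pow_right (by norm_num) hk2
        _ = 4 := by norm_num
    have heq : H = (P : Subgroup (alternatingGroup (Fin 5))) :=
      Subgroup.eq_of_le_of_card_ge hP hPle
    rw [heq]
    exact Cfsg.Agent.H2.Prn.sylow_pronormal P

end Cfsg.Agent.S2222L
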