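import Mathlib

set_option autoImplicit false

/-! S2222 piece P: a subgroup of odd index contains a Sylow 2-subgroup. -/

namespace Cfsg.Agent.S2222L

theorem exists_sylow_le_of_odd_index {G : Type*} [Group G] [Finite G] (H : Subgroup G)
    (hH : Odd H.index) : ∃ P : Sylow 2 G, (P : Subgroup G) ≤ H := by
  haveI : Fact (Nat.Prime 2) := ⟨Nat.prime_two⟩
  have h : ¬ 2 ∣ H.index := by
    intro hd
    have := Nat.odd_iff.1 hH
    omega
  obtain ⟨S₁⟩ : Nonempty (Sylow 2 ↥H) := inferInstance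
  have hpg : IsPGroup 2 ↥((S₁ : Subgroup ↥H).map H.subtype) := S₁.isPGroup'.map H.subtype
  have hidx : ¬ 2 ∣ ((S₁ : Subgroup ↥H).map H.subtype).index := by
    rw [Subgroup.index_map_subtype]
    intro hd
    rcases Nat.prime_two.dvd_mul.1 hd with h1 | h1
    · exact S₁.not_dvd_index h1
    · exact h h1
  exact ⟨hpg.toSylow hidx, Subgroup.map_subtype_le _⟩

end Cfsg.Agent.S2222L
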