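import Mathlib
import Cfsg.Prelude.Def_HallClasses
import Cfsg.Agent.H2.PronormalD
import Cfsg.Agent.Lib.S2222.Glue
import Cfsg.Agent.Lib.S2222.P
import Cfsg.Agent.Lib.S2222.N5

set_option autoImplicit false

namespace Cfsg.Agent.S2222L

/-! # S2222: subgroups of odd index in `A_n`, `n ≥ 5`, are pronormal (assembly, helper4) -/

theorem result (n : ℕ) (hn : 5 ≤ n)
    (H : Subgroup (alternatingGroup (Fin n))) (hH : Odd H.index) : Cfsg.IsPronormal H := by
  rcases Nat.lt_or_ge n 6 with h | h
  · have : n = 5 := by omega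
    subst this
    exact n5_pronormal H hH
  · obtain ⟨P, hP⟩ := exists_sylow_le_of_odd_index H hH
    have : Fact (Nat.Prime 2) := ⟨Nat.prime_two⟩
    exact Cfsg.Agent.H2.Prn.pronormal_of_self_normalizing_sylow P
      (sylow_self_normalizing n h P) H hP

end Cfsg.Agent.S2222L
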